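import Groth.Agent.BddFib93.Core
import Groth.Prelude.Def_Mor2
import Groth.Agent.UH57.Basic

set_option autoImplicit false
universe u

open CategoryTheory CategoryTheory.Limits AlgebraicGeometry TopologicalSpace TensorProduct

namespace Groth.Agent.BddFib93

theorem fibreDegLE_one_of_isImmersion {X Y : Scheme.{u}} (f : X ⟶ Y) [IsImmersion f] :
    BddFib.FibreDegLE f 1 := by
  refine (fibreDegLE_iff f 1).2 fun k _ g => ?_
  have : Finite (Spec (CommRingCat.of k)) := inferInstanceAs (Finite (PrimeSpectrum k))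
  have : DiscreteTopology (Spec (CommRingCat.of k)) :=
    inferInstanceAs (DiscreteTopology (PrimeSpectrum k))
  have : IsClosedImmersion (pullback.snd f g) :=
    .of_isPreimmersion _ (isClosed_discrete _)
  obtain ⟨I, e, he⟩ := IsClosedImmersion.Spec_iff.1 this
  refine (fdle_iff_exists _ 1).2 ⟨k ⧸ I, inferInstance, inferInstanceAs (Algebra k (k ⧸ I)), e,
    he.symm, ?_⟩
  have hs : Function.Surjective (Algebra.linearMap k (k ⧸ I)) := Ideal.Quotient.mk_surjective
  exact ⟨Module.Finite.of_surjective _ hs,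
    (LinearMap.finrank_le_finrank_of_surjective hs).trans (Module.finrank_self k).le⟩

theorem fibreDegLE_of_isFinLocFreeOfDeg {X Y : Scheme.{u}} (f : X ⟶ Y) (d : ℕ)
    (hf : Mor2.IsFinLocFreeOfDeg d f) : BddFib.FibreDegLE f d := by
  obtain ⟨⟨h1, h2, h3⟩, hd⟩ := hf
  refine (fibreDegLE_iff f d).2 fun k _ g => ?_
  have : IsAffine (pullback f g) := isAffine_of_isAffineHom (pullback.snd f g)
  obtain ⟨S, i1, i2, e, he⟩ := exists_algebra (pullback.snd f g)
  let : Algebra k S := i2
  let m : k →+* S := algebraMap k S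
  have hfin : IsFinite (Spec.map (CommRingCat.ofHom m)) := by
    have h2 : IsFinite (e.inv ≫ pullback.snd f g) := inferInstance
    rwa [← he, Iso.inv_hom_id_assoc] at h2
  have hflat : Flat (Spec.map (CommRingCat.ofHom m)) := by
    have h2 : Flat (e.inv ≫ pullback.snd f g) := inferInstance
    rwa [← he, Iso.inv_hom_id_assoc] at h2
  have : Module.Finite k S := RingHom.finite_algebraMap.1 ((IsFinite.SpecMap_iff (CommRingCat.ofHom m)).1 hfin)
  have hr := Scheme.Hom.finrank_pullback_snd f g (IsLocalRing.closedPoint k)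
  rw [hd, ← he] at hr
  erw [Scheme.Hom.finrank_comp_left_of_isIso, Scheme.Hom.finrank_SpecMap_algebraMap k S,
    Module.rankAtStalk_eq_finrank_of_free] at hr
  rw [← he, fdle_iso_comp_iff, fdle_spec]
  exact ⟨this, le_of_eq (by simpa using hr)⟩

theorem fibreDegLE_of_flat_surjective {X Y Z : Scheme.{u}} (f : X ⟶ Y) (h : Y ⟶ Z) [Flat f]
    [Surjective f] (n : ℕ) (hg : BddFib.FibreDegLE (f ≫ h) n) : BddFib.FibreDegLE h n := by
  refine (fibreDegLE_iff h n).2 fun k _ g => ?_
  have hk := (fibreDegLE_iff (f ≫ h) n).1 hg k g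
  let m : pullback (f ≫ h) g ⟶ pullback h g :=
    pullback.lift (pullback.fst _ _ ≫ f) (pullback.snd _ _)
      (by rw [Category.assoc]; exact pullback.condition)
  have hm : IsPullback (pullback.fst (f ≫ h) g) m f (pullback.fst h g) :=
    IsPullback.of_bot (by
      have e : m ≫ pullback.snd h g = pullback.snd (f ≫ h) g := pullback.lift_snd _ _ _
      rw [e]
      exact IsPullback.of_hasPullback (f ≫ h) g)
      (pullback.lift_fst _ _ _).symm (IsPullback.of_hasPullback h g)
  have : Flat m := MorphismProperty.of_isPullback hm ‹Flat f›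
  have : Surjective m := MorphismProperty.of_isPullback hm ‹Surjective f›
  obtain ⟨_, _⟩ := finite_discrete_of_fdle hk
  obtain ⟨_, _⟩ := discrete_of_flat_surjective m
  have := hk.1
  obtain ⟨A, i1, i2, e, he⟩ := exists_algebra (pullback.snd h g)
  obtain ⟨B, j1, j2, e', he', hfin, hrk⟩ := (fdle_iff_exists _ n).1 hk
  let : Algebra k A := i2
  let : Algebra k B := j2
  obtain ⟨φ, hφ⟩ := Spec.map_surjective (e'.inv ≫ m ≫ e.hom)
  have hfs : Flat (Spec.map φ) ∧ Surjective (Spec.map φ) := by
    rw [hφ]; exact ⟨inferInstance, inferInstance⟩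
  have hinj : Function.Injective φ.hom := ((flat_and_surjective_SpecMap_iff φ).1 hfs).injective
  have hcomm : CommRingCat.ofHom (algebraMap k A) ≫ φ = CommRingCat.ofHom (algebraMap k B) := by
    refine Spec.map_injective ?_
    rw [Spec.map_comp, hφ, Category.assoc, Category.assoc, he]
    rw [show m ≫ pullback.snd h g = pullback.snd (f ≫ h) g from pullback.lift_snd _ _ _,
      Iso.inv_comp_eq]
    exact he'.symm
  let ψ : A →ₐ[k] B :=
    { φ.hom with commutes' := fun r => congr($(congrArg CommRingCat.Hom.hom hcomm) r) }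
  have hB : Module.Finite k B := hfin
  rw [← he, fdle_iso_comp_iff, fdle_spec]
  exact ⟨Module.Finite.of_injective ψ.toLinearMap hinj,
    (LinearMap.finrank_le_finrank_of_injective (f := ψ.toLinearMap) hinj).trans hrk⟩

/-- The image of a finite-dimensional algebra in a field is a field. -/
theorem exists_mul_eq_one_of_finite {K G F : Type u} [Field K] [CommRing G] [Algebra K G]
    [Module.Finite K G] [Field F] (φ : G →+* F) {s : G} (hs : φ s ≠ 0) :
    ∃ t : G, φ s * φ t = 1 := by
  have hprime : (RingHom.ker φ).IsPrime := RingHom.ker_isPrime φ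
  have : IsArtinianRing G := IsArtinianRing.of_finite K G
  have hmax := IsArtinianRing.isMaximal_of_isPrime (RingHom.ker φ)
  obtain ⟨t, ht⟩ := hmax.exists_inv (x := s) hs
  obtain ⟨i, hi, hti⟩ := ht
  refine ⟨t, ?_⟩
  have := congrArg φ hti
  rw [map_add, map_one, map_mul, show φ i = 0 from hi, add_zero] at this
  rwa [mul_comm]

theorem sum_residueDegree_le {K : Type u} [Field K] {T : Scheme.{u}}
    {p : T ⟶ Spec (CommRingCat.of K)} {n : ℕ}
    (h : BddFib.FiniteOfDegLE (CommRingCat.of K) p n) :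
    Finite T ∧ Nat.card T ≤ n ∧ ∑ᶠ x : T, p.residueDegree x ≤ n := by
  classical
  obtain ⟨hT, hd⟩ := finite_discrete_of_fdle h
  let : Fintype T := Fintype.ofFinite T
  have := h.1
  let : Algebra K Γ(T, ⊤) := BddFib.secAlgebra (CommRingCat.of K) p
  have hfin : Module.Finite K Γ(T, ⊤) := h.2.1
  have hrk : Module.finrank K Γ(T, ⊤) ≤ n := h.2.2
  let _ : ∀ x : T, Algebra K (T.residueField x) := fun x =>
    ((T.Γevaluation x).hom.comp (algebraMap K Γ(T, ⊤))).toAlgebra
  let Φ : Γ(T, ⊤) →ₗ[K] (∀ x : T, T.residueField x) :=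
    (AlgHom.pi fun x => ({ (T.Γevaluation x).hom with commutes' := fun _ => rfl } :
      Γ(T, ⊤) →ₐ[K] T.residueField x)).toLinearMap
  have hev : ∀ (x : T) (z : T.residueField x), ∃ a : Γ(T, ⊤), T.Γevaluation x a = z := by
    intro x z
    obtain ⟨w, hw⟩ := T.residue_surjective x z
    have := (isAffineOpen_top T).isLocalization_stalk (⟨x, trivial⟩ : (⊤ : T.Opens))
    let _ : Algebra Γ(T, ⊤) (T.presheaf.stalk x) :=
      T.presheaf.algebra_section_stalk (⟨x, trivial⟩ : (⊤ : T.Opens))
    obtain ⟨⟨a, s⟩, hs⟩ := IsLocalization.surj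
      ((isAffineOpen_top T).primeIdealOf (⟨x, trivial⟩ : (⊤ : T.Opens))).asIdeal.primeCompl
      (show T.presheaf.stalk ((⟨x, trivial⟩ : (⊤ : T.Opens)) : T) from w)
    have hne : T.Γevaluation x s ≠ 0 :=
      ((IsLocalization.map_units (T.presheaf.stalk x) s).map (T.residue x).hom).ne_zero
    obtain ⟨t, ht⟩ := exists_mul_eq_one_of_finite (K := K) (T.Γevaluation x).hom hne
    refine ⟨a * t, ?_⟩
    have h1 := congrArg (T.residue x).hom hs
    rw [map_mul] at h1
    erw [hw] at h1
    rw [map_mul]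
    change z * T.Γevaluation x s = T.Γevaluation x a at h1
    rw [← h1, mul_assoc, ht, mul_one]
  have hsep : ∀ x : T, ∃ f : Γ(T, ⊤),
      T.Γevaluation x f ≠ 0 ∧ ∀ y, y ≠ x → T.Γevaluation y f = 0 := by
    intro x
    obtain ⟨f, hle, hx⟩ := (isAffineOpen_top T).exists_basicOpen_le
      (V := ⟨{x}, isOpen_discrete _⟩) ⟨x, rfl⟩ trivial
    exact ⟨f, (T.Γevaluation_ne_zero_iff_mem_basicOpen x f).2 hx, fun y hy => by_contra fun hne =>
      hy (hle ((T.Γevaluation_ne_zero_iff_mem_basicOpen y f).1 hne))⟩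
  choose e he he' using hsep
  have hsurj : Function.Surjective Φ := fun z => by
    choose c hc using fun x => hev x (z x / T.Γevaluation x (e x))
    refine ⟨∑ x, c x * e x, funext fun y => ?_⟩
    show T.Γevaluation y (∑ x, c x * e x) = z y
    rw [map_sum, Finset.sum_eq_single y (fun x _ hx => by rw [map_mul, he' x y hx.symm, mul_zero])
      (fun hy => absurd (Finset.mem_univ y) hy), map_mul, hc y, div_mul_cancel₀ _ (he y)]
  have : ∀ x : T, Module.Finite K (T.residueField x) := fun x =>
    Module.Finite.of_surjective ((LinearMap.proj x).comp Φ)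
      ((Function.surjective_eval x).comp hsurj)
  have hsum : ∑ x, Module.finrank K (T.residueField x) ≤ n := by
    rw [← Module.finrank_pi_fintype]
    exact (LinearMap.finrank_le_finrank_of_surjective hsurj).trans hrk
  have hdeg : ∀ x : T, p.residueDegree x = Module.finrank K (T.residueField x) := by
    intro x
    let ν : CommRingCat.of K ⟶ (Spec (CommRingCat.of K)).residueField (p x) :=
      (Scheme.ΓSpecIso _).inv ≫ (Spec (CommRingCat.of K)).Γevaluation (p x)
    have hν : Function.Bijective ν.hom := by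
      refine ⟨ν.hom.injective, fun z => ?_⟩
      obtain ⟨a, s, hs, hz⟩ : ∃ a s : K, ν.hom s ≠ 0 ∧ ν.hom s * z = ν.hom a :=
        UH57.ev_surj (A := K) (p x) z
      have hs0 : s ≠ 0 := fun h => hs (by rw [h, map_zero])
      exact ⟨a / s, by rw [map_div₀, ← hz, mul_div_cancel_left₀ _ hs]⟩
    let eK : K ≃+* (Spec (CommRingCat.of K)).residueField (p x) := RingEquiv.ofBijective ν.hom hν
    let _ := (p.residueFieldMap x).hom.toAlgebra
    refine (Algebra.finrank_eq_of_equiv_equiv eK (RingEquiv.refl _) (RingHom.ext fun r => ?_)).symm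
    show (p.residueFieldMap x).hom (ν.hom r) = T.Γevaluation x (algebraMap K Γ(T, ⊤) r)
    exact Scheme.Γevaluation_naturality_apply p x _
  refine ⟨hT, ?_, ?_⟩
  · rw [Nat.card_eq_fintype_card, Fintype.card_eq_sum_ones]
    exact le_trans (Finset.sum_le_sum fun x _ => Module.finrank_pos) hsum
  · rw [finsum_eq_sum_of_fintype]
    simpa only [hdeg] using hsum

end Groth.Agent.BddFib93
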