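import Groth.Agent.BddFib93.Basic

set_option autoImplicit false
universe u

open CategoryTheory CategoryTheory.Limits AlgebraicGeometry TopologicalSpace TensorProduct

namespace Groth.Agent.BddFib93

theorem sup_smul_mul_eq_top {S B : Type u} [CommRing S] [AddCommGroup B] [Module S B]
    {N : Submodule S B} {I J : Ideal S} (hI : N ⊔ I • ⊤ = ⊤) (hJ : N ⊔ J • ⊤ = ⊤) :
    N ⊔ (I * J) • ⊤ = ⊤ := by
  refine eq_top_iff.2 ?_
  calc (⊤ : Submodule S B) = N ⊔ I • (N ⊔ J • ⊤) := by rw [hJ, hI]
    _ ≤ N ⊔ (I * J) • ⊤ := by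
      rw [Submodule.smul_sup, show I • (J • (⊤ : Submodule S B)) = (I * J) • ⊤ from
        (Submodule.smul_assoc I J ⊤).symm]
      exact sup_le le_sup_left (sup_le (Submodule.smul_le_right.trans le_sup_left) le_sup_right)

/-- Nakayama for an Artinian ring, without finiteness. -/
theorem eq_top_of_forall_maximal {S B : Type u} [CommRing S] [IsArtinianRing S] [AddCommGroup B]
    [Module S B] {N : Submodule S B} (h : ∀ m : MaximalSpectrum S, N ⊔ m.asIdeal • ⊤ = ⊤) :
    N = ⊤ := by
  classical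
  let : Fintype (MaximalSpectrum S) := Fintype.ofFinite _
  have h1 : N ⊔ (∏ m : MaximalSpectrum S, m.asIdeal) • ⊤ = ⊤ :=
    Finset.prod_induction _ (fun I : Ideal S => N ⊔ I • ⊤ = ⊤)
      (fun _ _ => sup_smul_mul_eq_top) (by simp) fun m _ => h m
  have hle : (∏ m : MaximalSpectrum S, m.asIdeal) ≤ nilradical S := by
    rw [nilradical_eq_sInf]
    refine le_sInf fun p (hp : p.IsPrime) => ?_
    exact Ideal.prod_le_inf.trans
      (Finset.inf_le (Finset.mem_univ (⟨p, IsArtinianRing.isMaximal_of_isPrime p⟩ : MaximalSpectrum S)))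
  obtain ⟨k, hk⟩ := IsArtinianRing.isNilpotent_nilradical (R := S)
  have h2 : ∀ k : ℕ, N ⊔ ((∏ m : MaximalSpectrum S, m.asIdeal) ^ k) • ⊤ = ⊤ := fun k => by
    induction k with
    | zero => simp
    | succ k ih => rw [pow_succ]; exact sup_smul_mul_eq_top ih h1
  have h3 : (∏ m : MaximalSpectrum S, m.asIdeal) ^ k = ⊥ :=
    le_bot_iff.1 ((Ideal.pow_right_mono hle k).trans hk.le)
  simpa [h3] using h2 k

theorem exists_crt {S : Type u} [CommRing S] [IsArtinianRing S] :
    ∃ e : MaximalSpectrum S → S,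
      ∀ m, e m - 1 ∈ m.asIdeal ∧ ∀ m', m' ≠ m → e m ∈ m'.asIdeal := by
  classical
  let : Fintype (MaximalSpectrum S) := Fintype.ofFinite _
  suffices ∀ m : MaximalSpectrum S, ∃ x : S, x - 1 ∈ m.asIdeal ∧ ∀ m', m' ≠ m → x ∈ m'.asIdeal from
    Classical.skolem.1 this
  intro m
  have hcop : m.asIdeal ⊔ ∏ m' ∈ Finset.univ.erase m, m'.asIdeal = ⊤ :=
    Ideal.sup_prod_eq_top fun m' hm' => m.isMaximal.coprime_of_ne m'.isMaximal fun h =>
      (Finset.mem_erase.1 hm').1 (MaximalSpectrum.ext h.symm)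
  obtain ⟨a, ha, b, hb, hab⟩ := Submodule.mem_sup.1
    (show (1 : S) ∈ _ by rw [hcop]; trivial)
  refine ⟨b, ?_, fun m' hm' => (Ideal.prod_le_inf.trans
    (Finset.inf_le (Finset.mem_erase.2 ⟨hm', Finset.mem_univ m'⟩)) : _) hb⟩
  rw [show b - 1 = -a by rw [← hab]; ring]
  exact neg_mem ha

/-- Over a finite algebra, an algebra whose closed fibres have degree at most `n` has degree at most
`n` times the degree of the base. -/
theorem finite_of_fibres {K S B : Type u} [Field K] [CommRing S] [Algebra K S] [Module.Finite K S]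
    [CommRing B] [Algebra K B] [Algebra S B] [IsScalarTower K S B] {n : ℕ}
    (h : ∀ m : MaximalSpectrum S, ∃ g : Fin n → B,
      Submodule.span S (Set.range g) ⊔ m.asIdeal • ⊤ = ⊤) :
    Module.Finite K B ∧ Module.finrank K B ≤ n * Module.finrank K S := by
  classical
  have : IsArtinianRing S := IsArtinianRing.of_finite K S
  let : Fintype (MaximalSpectrum S) := Fintype.ofFinite _
  obtain ⟨e, he⟩ := exists_crt (S := S)
  choose g hg using h
  let G : Fin n → B := fun i => ∑ m, e m • g m i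
  let L : (Fin n → S) →ₗ[S] B := Fintype.linearCombination S G
  have hG : LinearMap.range L = ⊤ := by
    refine eq_top_of_forall_maximal fun m => eq_top_iff.2 ((hg m).ge.trans (sup_le ?_ le_sup_right))
    refine Submodule.span_le.2 ?_
    rintro _ ⟨i, rfl⟩
    have hd : G i - g m i ∈ m.asIdeal • (⊤ : Submodule S B) := by
      have : G i - g m i = (e m - 1) • g m i + ∑ m' ∈ Finset.univ.erase m, e m' • g m' i := by
        rw [show G i = ∑ m', e m' • g m' i from rfl,
          ← Finset.add_sum_erase _ _ (Finset.mem_univ m), sub_smul, one_smul]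
        abel
      rw [this]
      refine add_mem (Submodule.smul_mem_smul (he m).1 trivial) (Submodule.sum_mem _ fun m' hm' =>
        Submodule.smul_mem_smul ((he m').2 m (Finset.mem_erase.1 hm').1.symm) trivial)
    have hGi : G i ∈ LinearMap.range L := ⟨Pi.single i 1, by simp [L, Fintype.linearCombination_apply_single]⟩
    have := Submodule.sub_mem _ (Submodule.mem_sup_left hGi : G i ∈ LinearMap.range L ⊔ m.asIdeal • ⊤)
      (Submodule.mem_sup_right hd)
    rwa [sub_sub_cancel] at this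
  have hs : Function.Surjective (L.restrictScalars K) := fun b => LinearMap.range_eq_top.1 hG b
  refine ⟨Module.Finite.of_surjective _ hs,
    (LinearMap.finrank_le_finrank_of_surjective hs).trans ?_⟩
  rw [Module.finrank_pi_fintype]
  simp

theorem fdle_comp {K : Type u} [Field K] {T P : Scheme.{u}}
    {p : T ⟶ Spec (CommRingCat.of K)} {q : P ⟶ T} {n m : ℕ} (hq : BddFib.FibreDegLE q n)
    (hp : BddFib.FiniteOfDegLE (CommRingCat.of K) p m) :
    BddFib.FiniteOfDegLE (CommRingCat.of K) (q ≫ p) (n * m) := by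
  obtain ⟨hT, hd⟩ := finite_discrete_of_fdle hp
  have hfibre : ∀ t : T, Finite (q ⁻¹' {t}) ∧ DiscreteTopology (q ⁻¹' {t}) := fun t => by
    obtain ⟨_, _⟩ := finite_discrete_of_fdle (K := T.residueField t) (hq t)
    exact ⟨Finite.of_equiv _ (q.fiberHomeo t).toEquiv, (q.fiberHomeo t).discreteTopology⟩
  have hP : Finite P := by
    have : (Set.univ : Set P) = ⋃ t, q ⁻¹' {t} := by ext; simp
    exact Set.finite_univ_iff.1 (this ▸ Set.finite_iUnion fun t => (@Set.toFinite _ (q ⁻¹' {t}) (hfibre t).1))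
  have hPd : DiscreteTopology P := discreteTopology_iff_isOpen_singleton.2 fun x => by
    have := (hfibre (q x)).2
    have ho : IsOpen (q ⁻¹' {q x}) := (isOpen_discrete _).preimage q.continuous
    obtain ⟨U, hU, hUx⟩ := isOpen_induced_iff.1 (isOpen_discrete ({⟨x, rfl⟩} : Set (q ⁻¹' {q x})))
    have : ({x} : Set P) = U ∩ q ⁻¹' {q x} := by
      ext z
      constructor
      · rintro rfl
        exact ⟨(Set.ext_iff.1 hUx ⟨z, rfl⟩).2 rfl, rfl⟩
      · rintro ⟨hz, hz'⟩
        exact congrArg Subtype.val ((Set.ext_iff.1 hUx ⟨z, hz'⟩).1 hz)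
    rw [this]
    exact hU.inter ho
  obtain ⟨S, i1, i2, e, he, hfin, hrk⟩ := (fdle_iff_exists p m).1 hp
  let : Algebra K S := i2
  obtain ⟨B, j1, j2, e', he'⟩ := exists_algebra (K := CommRingCat.of S) (q ≫ e.hom)
  let : Algebra S B := j2
  let : Algebra K B := ((algebraMap S B).comp (algebraMap K S)).toAlgebra
  have : IsScalarTower K S B := .of_algebraMap_eq' rfl
  have hS : Module.Finite K S := hfin
  have hpb : ∀ (M : MaximalSpectrum S), ∃ g : Fin n → B,
      Submodule.span S (Set.range g) ⊔ M.asIdeal • ⊤ = ⊤ := by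
    intro M
    have := M.isMaximal
    let : Field (S ⧸ M.asIdeal) := Ideal.Quotient.field M.asIdeal
    let s : Spec (CommRingCat.of (S ⧸ M.asIdeal)) ⟶ Spec (CommRingCat.of S) :=
      Spec.map (CommRingCat.ofHom (algebraMap S (S ⧸ M.asIdeal)))
    let π : Spec (CommRingCat.of B) ⟶ Spec (CommRingCat.of S) :=
      Spec.map (CommRingCat.ofHom (algebraMap S B))
    have hsq : IsPullback e'.inv π q e.inv :=
      IsPullback.of_horiz_isIso ⟨by rw [Iso.eq_comp_inv, Category.assoc, ← he',
        Iso.inv_hom_id_assoc]⟩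
    have hπ : BddFib.FibreDegLE π n := fibreDegLE_of_isPullback q e.inv π e'.inv hsq n hq
    have hk := (fibreDegLE_iff π n).1 hπ (S ⧸ M.asIdeal) s
    have h' : IsPullback (pullback.snd π s) (pullback.fst π s) s π :=
      (IsPullback.of_hasPullback π s).flip
    let r : pullback π s ≅ Spec (CommRingCat.of ((S ⧸ M.asIdeal) ⊗[S] B)) :=
      h'.isoPullback ≪≫ pullbackSpecIso S (S ⧸ M.asIdeal) B
    have hr : r.hom ≫ Spec.map (CommRingCat.ofHom
        (algebraMap (S ⧸ M.asIdeal) ((S ⧸ M.asIdeal) ⊗[S] B))) = pullback.snd π s := by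
      simp only [r, Iso.trans_hom, Category.assoc]
      erw [pullbackSpecIso_hom_fst']
      exact h'.isoPullback_hom_fst
    rw [← hr, fdle_iso_comp_iff, fdle_spec] at hk
    obtain ⟨hf, hn⟩ := hk
    have : Module.Finite (S ⧸ M.asIdeal) ((S ⧸ M.asIdeal) ⊗[S] B) := hf
    let W := (S ⧸ M.asIdeal) ⊗[S] B
    let b := Module.finBasis (S ⧸ M.asIdeal) W
    let v : Fin n → W := fun i =>
      if h : (i : ℕ) < Module.finrank (S ⧸ M.asIdeal) W then b ⟨i, h⟩ else 0
    have hv : Submodule.span S (Set.range v) = ⊤ := by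
      refine eq_top_iff.2 ?_
      have hb : Submodule.span S (Set.range b) = ⊤ := by
        have := Submodule.restrictScalars_span S (S ⧸ M.asIdeal) Ideal.Quotient.mk_surjective
          (Set.range b)
        rw [b.span_eq, Submodule.restrictScalars_top] at this
        exact this.symm
      rw [← hb]
      refine Submodule.span_mono ?_
      rintro _ ⟨j, rfl⟩
      exact ⟨Fin.castLE hn j, by simp [v, j.2]⟩
    let φ : W ≃ₗ[S] B ⧸ (M.asIdeal • ⊤ : Submodule S B) :=
      TensorProduct.quotTensorEquivQuotSMul B M.asIdeal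
    choose g hg using fun i => Submodule.mkQ_surjective (M.asIdeal • ⊤ : Submodule S B) (φ (v i))
    refine ⟨g, ?_⟩
    have h1 : (Submodule.span S (Set.range g)).map (M.asIdeal • ⊤ : Submodule S B).mkQ = ⊤ := by
      rw [Submodule.map_span, ← Set.range_comp, show (⇑(M.asIdeal • ⊤ : Submodule S B).mkQ ∘ g) =
        φ.toLinearMap ∘ v from funext hg, Set.range_comp, ← Submodule.map_span, hv,
        Submodule.map_top, LinearEquiv.range]
    have h2 := congrArg (Submodule.comap (M.asIdeal • ⊤ : Submodule S B).mkQ) h1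
    rw [Submodule.comap_map_mkQ, Submodule.comap_top] at h2
    rwa [sup_comm]
  obtain ⟨hfB, hrB⟩ := finite_of_fibres (K := K) hpb
  refine (fdle_iff_exists _ _).2 ⟨B, inferInstance, inferInstanceAs (Algebra K B), e', ?_, hfB,
    hrB.trans (Nat.mul_le_mul_left _ hrk)⟩
  show e'.hom ≫ Spec.map (CommRingCat.ofHom (algebraMap K S) ≫ CommRingCat.ofHom (algebraMap S B)) = _
  rw [Spec.map_comp, reassoc_of% he', he]

theorem fibreDegLE_comp {X Y Z : Scheme.{u}} (f : X ⟶ Y) (g : Y ⟶ Z) (n m : ℕ)
    (hf : BddFib.FibreDegLE f n) (hg : BddFib.FibreDegLE g m) :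
    BddFib.FibreDegLE (f ≫ g) (n * m) := by
  refine (fibreDegLE_iff _ _).2 fun k _ h => ?_
  have hT := (fibreDegLE_iff g m).1 hg k h
  have hq := fibreDegLE_of_isPullback f (pullback.fst g h)
    (pullback.snd f (pullback.fst g h)) (pullback.fst f (pullback.fst g h))
    (IsPullback.of_hasPullback _ _) n hf
  have := fdle_comp hq hT
  rw [← pullbackRightPullbackFstIso_hom_snd, fdle_iso_comp_iff] at this
  exact this

end Groth.Agent.BddFib93
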