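import Groth.Prelude.Def_W4stkschemesremainderFib
import Mathlib

set_option autoImplicit false
universe u

open CategoryTheory CategoryTheory.Limits AlgebraicGeometry TopologicalSpace TensorProduct

namespace Groth.Agent.BddFib93

theorem discrete_of_flat_surjective {T' T : Scheme.{u}} (f : T' ⟶ T) [Flat f] [Surjective f]
    [Finite T'] [DiscreteTopology T'] : Finite T ∧ DiscreteTopology T := by
  have hfin : Finite T := Finite.of_surjective _ f.surjective
  refine ⟨hfin, ?_⟩
  have : T1Space T := t1Space_iff_specializes_imp_eq.2 fun x y hxy => by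
    obtain ⟨z, rfl⟩ := f.surjective y
    obtain ⟨z', hz', rfl⟩ := Flat.generalizingMap f hxy
    rw [hz'.eq]
  infer_instance

theorem fdle_spec {K : CommRingCat.{u}} {S : Type u} [CommRing S] [Algebra K S] (n : ℕ) :
    BddFib.FiniteOfDegLE K (Spec.map (CommRingCat.ofHom (algebraMap K S))) n ↔
      Module.Finite K S ∧ Module.finrank K S ≤ n := by
  let e : Γ(Spec (CommRingCat.of S), ⊤) ≃+* S :=
    (Scheme.ΓSpecIso (CommRingCat.of S)).commRingCatIsoToRingEquiv
  let : Algebra K Γ(Spec (CommRingCat.of S), ⊤) :=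
    BddFib.secAlgebra K (Spec.map (CommRingCat.ofHom (algebraMap K S)))
  have he : ∀ k : K, e (algebraMap K _ k) = algebraMap K S k := fun k => by
    show (Scheme.ΓSpecIso (CommRingCat.of S)).hom
      (((Scheme.ΓSpecIso K).inv ≫ (Spec.map (CommRingCat.ofHom (algebraMap K S))).appTop).hom k) = _
    rw [← Scheme.ΓSpecIso_inv_naturality]
    exact Iso.inv_hom_id_apply (Scheme.ΓSpecIso (CommRingCat.of S)) _
  let e' : Γ(Spec (CommRingCat.of S), ⊤) ≃ₐ[K] S := AlgEquiv.ofRingEquiv he
  constructor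
  · rintro ⟨-, hf, hr⟩
    have := hf
    exact ⟨Module.Finite.equiv e'.toLinearEquiv, e'.toLinearEquiv.finrank_eq ▸ hr⟩
  · rintro ⟨hf, hr⟩
    exact ⟨inferInstance, Module.Finite.equiv e'.symm.toLinearEquiv,
      e'.toLinearEquiv.finrank_eq.symm ▸ hr⟩

theorem fdle_iso_comp {K : CommRingCat.{u}} {T T' : Scheme.{u}} (e : T' ⟶ T) [IsIso e]
    (p : T ⟶ Spec K) (n : ℕ) :
    BddFib.FiniteOfDegLE K p n → BddFib.FiniteOfDegLE K (e ≫ p) n := by
  rintro ⟨h1, h2, h3⟩
  let : Algebra K Γ(T, ⊤) := BddFib.secAlgebra K p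
  let : Algebra K Γ(T', ⊤) := BddFib.secAlgebra K (e ≫ p)
  let r : Γ(T, ⊤) ≃ₐ[K] Γ(T', ⊤) :=
    AlgEquiv.ofRingEquiv (f := (Scheme.Γ.mapIso (asIso e).op).commRingCatIsoToRingEquiv) fun k => rfl
  exact ⟨IsAffine.of_isIso e, Module.Finite.equiv r.toLinearEquiv,
    r.toLinearEquiv.finrank_eq ▸ h3⟩

theorem fdle_iso_comp_iff {K : CommRingCat.{u}} {T T' : Scheme.{u}} (e : T' ⟶ T) [IsIso e]
    (p : T ⟶ Spec K) (n : ℕ) :
    BddFib.FiniteOfDegLE K (e ≫ p) n ↔ BddFib.FiniteOfDegLE K p n :=
  ⟨fun h => by simpa using fdle_iso_comp (inv e) (e ≫ p) n h, fdle_iso_comp e p n⟩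

/-- An affine scheme over an affine scheme is the spectrum of an algebra. -/
theorem exists_algebra {K : CommRingCat.{u}} {T : Scheme.{u}} [IsAffine T] (p : T ⟶ Spec K) :
    ∃ (S : Type u) (_ : CommRing S) (_ : Algebra K S) (e : T ≅ Spec (CommRingCat.of S)),
      e.hom ≫ Spec.map (CommRingCat.ofHom (algebraMap K S)) = p := by
  obtain ⟨φ, hφ⟩ := Spec.map_surjective (T.isoSpec.inv ≫ p)
  refine ⟨Γ(T, ⊤), inferInstance, φ.hom.toAlgebra, T.isoSpec, ?_⟩
  show T.isoSpec.hom ≫ Spec.map φ = p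
  rw [hφ, Iso.hom_inv_id_assoc]

theorem fdle_iff_exists {K : CommRingCat.{u}} {T : Scheme.{u}} (p : T ⟶ Spec K) (n : ℕ) :
    BddFib.FiniteOfDegLE K p n ↔
      ∃ (S : Type u) (_ : CommRing S) (_ : Algebra K S) (e : T ≅ Spec (CommRingCat.of S)),
        e.hom ≫ Spec.map (CommRingCat.ofHom (algebraMap K S)) = p ∧
          Module.Finite K S ∧ Module.finrank K S ≤ n := by
  constructor
  · intro h
    have := h.1
    obtain ⟨S, i1, i2, e, rfl⟩ := exists_algebra p
    exact ⟨S, i1, i2, e, rfl, (fdle_spec n).1 ((fdle_iso_comp_iff e.hom _ n).1 h)⟩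
  · rintro ⟨S, i1, i2, e, rfl, h⟩
    exact fdle_iso_comp e.hom _ n ((fdle_spec n).2 h)

theorem finite_discrete_of_fdle {K : Type u} [Field K] {T : Scheme.{u}}
    {p : T ⟶ Spec (CommRingCat.of K)} {n : ℕ}
    (h : BddFib.FiniteOfDegLE (CommRingCat.of K) p n) : Finite T ∧ DiscreteTopology T := by
  obtain ⟨S, _, i2, e, -, hfin, -⟩ := (fdle_iff_exists p n).1 h
  let : Algebra K S := i2
  have : Module.Finite K S := hfin
  have : IsArtinianRing S := IsArtinianRing.of_finite K S
  have h1 : Finite (Spec (CommRingCat.of S)) := inferInstanceAs (Finite (PrimeSpectrum S))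
  have h2 : DiscreteTopology (Spec (CommRingCat.of S)) :=
    inferInstanceAs (DiscreteTopology (PrimeSpectrum S))
  exact ⟨Finite.of_injective _ e.hom.homeomorph.injective,
    e.inv.homeomorph.discreteTopology⟩

theorem finrank_baseChange' {K L S : Type u} [Field K] [Field L] [Algebra K L] [CommRing S]
    [Algebra K S] : Module.finrank L (L ⊗[K] S) = Module.finrank K S :=
  Module.finrank_baseChange

/-- Base change of `FiniteOfDegLE` along an extension of fields. -/
theorem fdle_baseChange_iff {K L : Type u} [Field K] [Field L] (σ : K →+* L)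
    {T T' : Scheme.{u}} {p : T ⟶ Spec (CommRingCat.of K)} {p' : T' ⟶ Spec (CommRingCat.of L)}
    {l : T' ⟶ T} (h : IsPullback l p' p (Spec.map (CommRingCat.ofHom σ))) (n : ℕ) :
    BddFib.FiniteOfDegLE (CommRingCat.of L) p' n ↔ BddFib.FiniteOfDegLE (CommRingCat.of K) p n := by
  let : Algebra K L := σ.toAlgebra
  have key : ∀ [IsAffine T],
      BddFib.FiniteOfDegLE (CommRingCat.of L) p' n ↔ BddFib.FiniteOfDegLE (CommRingCat.of K) p n := by
    intro _
    obtain ⟨S, i1, i2, e, rfl⟩ := exists_algebra p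
    let : Algebra K S := i2
    rw [fdle_iso_comp_iff, fdle_spec]
    have hT : IsPullback (pullback.fst (Spec.map (CommRingCat.ofHom (algebraMap K L)))
        (Spec.map (CommRingCat.ofHom (algebraMap K S))))
        (pullback.snd _ _) _ _ := IsPullback.of_hasPullback _ _
    have h' : IsPullback p' (l ≫ e.hom) (Spec.map (CommRingCat.ofHom (algebraMap K L)))
        (Spec.map (CommRingCat.ofHom (algebraMap K S))) :=
      (h.of_iso (Iso.refl _) e (Iso.refl _) (Iso.refl _) (by simp) (by simp) (by simp)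
        (by simp [RingHom.algebraMap_toAlgebra])).flip
    let r : T' ≅ Spec (CommRingCat.of (L ⊗[K] S)) := h'.isoPullback ≪≫ pullbackSpecIso K L S
    have hr : r.hom ≫ Spec.map (CommRingCat.ofHom (algebraMap L (L ⊗[K] S))) = p' := by
      simp only [r, Iso.trans_hom, Category.assoc]
      erw [pullbackSpecIso_hom_fst']
      exact h'.isoPullback_hom_fst
    rw [← hr, fdle_iso_comp_iff, fdle_spec]
    constructor
    · rintro ⟨hf, hr⟩
      have : Module.Finite L (L ⊗[K] S) := hf
      exact ⟨Module.Finite.of_finite_tensorProduct_of_faithfullyFlat (R := K) L,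
        finrank_baseChange' (K := K) (L := L) (S := S) ▸ hr⟩
    · rintro ⟨hf, hr⟩
      have : Module.Finite K S := hf
      exact ⟨inferInstanceAs (Module.Finite L (L ⊗[K] S)),
        (finrank_baseChange' (K := K) (L := L) (S := S)).symm ▸ hr⟩
  refine ⟨fun h' => ?_, fun h' => ?_⟩
  · obtain ⟨_, _⟩ := finite_discrete_of_fdle h'
    have hfl : Flat (Spec.map (CommRingCat.ofHom σ)) := by
      rw [Flat.SpecMap_iff]
      exact (RingHom.flat_algebraMap_iff (R := K) (S := L)).2 inferInstance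
    have hs : Surjective (Spec.map (CommRingCat.ofHom σ)) :=
      ⟨fun x => ⟨IsLocalRing.closedPoint L, Subsingleton.elim (α := PrimeSpectrum K) _ _⟩⟩
    have : Flat l := MorphismProperty.of_isPullback h.flip hfl
    have : Surjective l := MorphismProperty.of_isPullback h.flip hs
    obtain ⟨_, _⟩ := discrete_of_flat_surjective l
    exact key.1 h'
  · have := h'.1
    exact key.2 h'

/-- A finite discrete scheme is affine. -/
theorem isAffine_of_finite_discrete (T : Scheme.{u}) [Finite T] [DiscreteTopology T] : IsAffine T :=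
  inferInstance

theorem isPullback_fiber' {X Y : Scheme.{u}} (f : X ⟶ Y) (y : Y) {k : Type u} [Field k]
    (σ : Y.residueField y ⟶ CommRingCat.of k) :
    ∃ l : pullback f (Spec.map σ ≫ Y.fromSpecResidueField y) ⟶ f.fiber y,
      IsPullback l (pullback.snd f (Spec.map σ ≫ Y.fromSpecResidueField y))
        (f.fiberToSpecResidueField y) (Spec.map σ) := by
  have t : IsPullback (pullback.fst f (Y.fromSpecResidueField y))
      (pullback.snd f (Y.fromSpecResidueField y)) f (Y.fromSpecResidueField y) := .of_hasPullback _ _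
  have w : pullback.fst f (Spec.map σ ≫ Y.fromSpecResidueField y) ≫ f =
      (pullback.snd f (Spec.map σ ≫ Y.fromSpecResidueField y) ≫ Spec.map σ) ≫
        Y.fromSpecResidueField y := by rw [Category.assoc]; exact pullback.condition
  have hh : IsPullback (t.lift _ _ w) (pullback.snd f (Spec.map σ ≫ Y.fromSpecResidueField y))
      (pullback.snd f (Y.fromSpecResidueField y)) (Spec.map σ) :=
    IsPullback.of_right (by rw [t.lift_fst]; exact IsPullback.of_hasPullback f _)
      (t.lift_snd _ _ _) t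
  exact ⟨t.lift _ _ w, hh⟩

theorem isPullback_fiber {X Y : Scheme.{u}} (f : X ⟶ Y) {k : Type u} [Field k]
    (g : Spec (CommRingCat.of k) ⟶ Y) :
    ∃ (y : Y) (σ : Y.residueField y ⟶ CommRingCat.of k) (l : pullback f g ⟶ f.fiber y),
      IsPullback l (pullback.snd f g) (f.fiberToSpecResidueField y) (Spec.map σ) := by
  obtain ⟨y, σ, rfl⟩ : ∃ (y : Y) (σ : Y.residueField y ⟶ CommRingCat.of k),
      Spec.map σ ≫ Y.fromSpecResidueField y = g :=
    ⟨_, _, (Scheme.SpecToEquivOfField k Y).left_inv g⟩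
  obtain ⟨l, hl⟩ := isPullback_fiber' f y σ
  exact ⟨y, σ, l, hl⟩

theorem fibreDegLE_iff {X Y : Scheme.{u}} (f : X ⟶ Y) (n : ℕ) :
    BddFib.FibreDegLE f n ↔ ∀ (k : Type u) [Field k] (g : Spec (CommRingCat.of k) ⟶ Y),
      BddFib.FiniteOfDegLE (CommRingCat.of k) (pullback.snd f g) n := by
  refine ⟨fun h k _ g => ?_, fun h y => h (Y.residueField y) (Y.fromSpecResidueField y)⟩
  obtain ⟨y, σ, l, hl⟩ := isPullback_fiber f g
  exact (fdle_baseChange_iff (K := Y.residueField y) σ.hom hl n).2 (h y)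

theorem fibreDegLE_of_isPullback {X Y X' Y' : Scheme.{u}} (f : X ⟶ Y) (g : Y' ⟶ Y) (f' : X' ⟶ Y')
    (g' : X' ⟶ X) (h : IsPullback g' f' f g) (n : ℕ) (hf : BddFib.FibreDegLE f n) :
    BddFib.FibreDegLE f' n := fun y =>
  (fdle_baseChange_iff (K := Y.residueField (g y)) (L := Y'.residueField y)
    (g.residueFieldMap y).hom (isPullback_fiberToSpecResidueField_of_isPullback h y) n).2 (hf (g y))

theorem fibreDegLE_of_isPullback_of_surjective {X Y X' Y' : Scheme.{u}} (f : X ⟶ Y) (g : Y' ⟶ Y)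
    [Surjective g] (f' : X' ⟶ Y') (g' : X' ⟶ X) (h : IsPullback g' f' f g) (n : ℕ)
    (hf' : BddFib.FibreDegLE f' n) : BddFib.FibreDegLE f n := fun y => by
  obtain ⟨y', rfl⟩ := g.surjective y
  exact (fdle_baseChange_iff (K := Y.residueField (g y')) (L := Y'.residueField y')
    (g.residueFieldMap y').hom (isPullback_fiberToSpecResidueField_of_isPullback h y') n).1 (hf' y')

end Groth.Agent.BddFib93
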