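import Groth.Agent.BddFib93.Comp

set_option autoImplicit false
universe u

open CategoryTheory CategoryTheory.Limits AlgebraicGeometry TopologicalSpace TensorProduct

namespace Groth.Agent.BddFib93

theorem fdle_of_etale_algClosed {k : Type u} [Field k] [IsAlgClosed k] {T : Scheme.{u}}
    (p : T ⟶ Spec (CommRingCat.of k)) [Etale p] [Finite T] {n : ℕ} (hn : Nat.card T ≤ n) :
    BddFib.FiniteOfDegLE (CommRingCat.of k) p n := by
  have : JacobsonSpace (Spec (CommRingCat.of k)) := inferInstanceAs (JacobsonSpace (PrimeSpectrum k))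
  have : JacobsonSpace T := LocallyOfFiniteType.jacobsonSpace p
  obtain ⟨S, i1, i2, e, he⟩ := exists_algebra p
  let : Algebra k S := i2
  have h1 : Etale (Spec.map (CommRingCat.ofHom (algebraMap k S))) := by
    have h2 : Etale (e.inv ≫ p) := inferInstance
    rwa [← he, Iso.inv_hom_id_assoc] at h2
  have : Algebra.Etale k S := RingHom.etale_algebraMap.1 ((HasRingHomProperty.Spec_iff (P := @Etale)).1 h1)
  have hfin : Module.Finite k S := Algebra.FormallyUnramified.finite_of_free k S
  let E := Algebra.FormallyEtale.equivPiOfIsSepClosed k S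
  have : IsArtinianRing S := IsArtinianRing.of_finite k S
  let : Fintype (PrimeSpectrum S) := Fintype.ofFinite _
  refine (fdle_iff_exists p n).2 ⟨S, i1, i2, e, he, hfin, le_trans (le_of_eq ?_) hn⟩
  show Module.finrank k S = Nat.card T
  rw [Nat.card_congr e.hom.homeomorph.toEquiv, E.toLinearEquiv.finrank_eq, Module.finrank_pi]
  exact Nat.card_eq_fintype_card.symm

theorem fibreDegLE_of_etale {X Y : Scheme.{u}} (f : X ⟶ Y) [Etale f] (n : ℕ)
    (h : ∀ (k : Type u) [Field k] (g : Spec (CommRingCat.of k) ⟶ Y),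
      Finite ↥(pullback f g) ∧ Nat.card ↥(pullback f g) ≤ n) :
    BddFib.FibreDegLE f n := by
  intro y
  let kk := AlgebraicClosure (Y.residueField y)
  let σ : Y.residueField y ⟶ CommRingCat.of kk :=
    CommRingCat.ofHom (algebraMap (Y.residueField y) kk)
  obtain ⟨l, hl⟩ := isPullback_fiber' f y σ
  obtain ⟨_, hcard⟩ := h kk (Spec.map σ ≫ Y.fromSpecResidueField y)
  exact (fdle_baseChange_iff (K := Y.residueField y) (L := kk) σ.hom hl n).1
    (fdle_of_etale_algClosed _ hcard)

end Groth.Agent.BddFib93
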