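import Groth.Agent.BddFib93.Comp

set_option autoImplicit false
universe u

open CategoryTheory CategoryTheory.Limits AlgebraicGeometry TopologicalSpace TensorProduct

namespace Groth.Agent.BddFib93

/-- An open of a finite discrete scheme cover: the degree is at most the sum of the degrees. -/
theorem fdle_of_cover {k : Type u} [Field k] {T : Scheme.{u}} (p : T ⟶ Spec (CommRingCat.of k))
    [Finite T] [DiscreteTopology T] {ι : Type} [Fintype ι] {U : ι → Scheme.{u}} (j : ∀ i, U i ⟶ T)
    [∀ i, IsOpenImmersion (j i)] (hcov : ∀ x : T, ∃ i, x ∈ Set.range (j i)) (n : ι → ℕ)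
    (h : ∀ i, BddFib.FiniteOfDegLE (CommRingCat.of k) (j i ≫ p) (n i)) :
    BddFib.FiniteOfDegLE (CommRingCat.of k) p (∑ i, n i) := by
  let : Algebra k Γ(T, ⊤) := BddFib.secAlgebra (CommRingCat.of k) p
  let _ : ∀ i, Algebra k Γ(U i, ⊤) := fun i => BddFib.secAlgebra (CommRingCat.of k) (j i ≫ p)
  have hf : ∀ i, Module.Finite k Γ(U i, ⊤) := fun i => (h i).2.1
  let Φ : Γ(T, ⊤) →ₗ[k] (∀ i, Γ(U i, ⊤)) :=
    (AlgHom.pi fun i => ({ (j i).appTop.hom with commutes' := fun _ => rfl } :
      Γ(T, ⊤) →ₐ[k] Γ(U i, ⊤))).toLinearMap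
  have hinj : Function.Injective Φ := by
    intro a b hab
    refine TopCat.Presheaf.section_ext T.sheaf ⊤ a b fun x hx => ?_
    obtain ⟨i, y, rfl⟩ := hcov x
    have hi : (j i).appTop a = (j i).appTop b := congrFun hab i
    refine (ConcreteCategory.bijective_of_isIso ((j i).stalkMap y)).1 ?_
    erw [Scheme.Hom.germ_stalkMap_apply, Scheme.Hom.germ_stalkMap_apply]
    exact congrArg _ hi
  refine ⟨inferInstance, Module.Finite.of_injective Φ hinj,
    (LinearMap.finrank_le_finrank_of_injective hinj).trans ?_⟩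
  rw [Module.finrank_pi_fintype]
  exact Finset.sum_le_sum fun i _ => (h i).2.2

theorem fibreDegLE_of_cover {X Y : Scheme.{u}} (f : X ⟶ Y) [LocallyQuasiFinite f] {ι : Type}
    [Fintype ι] (U : ι → X.Opens) (hcov : ∀ x, ∃ i, x ∈ U i) (n : ι → ℕ)
    (h : ∀ i, BddFib.FibreDegLE ((U i).ι ≫ f) (n i)) : BddFib.FibreDegLE f (∑ i, n i) := by
  refine (fibreDegLE_iff f _).2 fun k _ g => ?_
  let r := fun i => pullbackRightPullbackFstIso f g (U i).ι
  let j := fun i => pullback.snd (U i).ι (pullback.fst f g)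
  have hj : ∀ i, BddFib.FiniteOfDegLE (CommRingCat.of k) (j i ≫ pullback.snd f g) (n i) := fun i => by
    have := fdle_iso_comp (r i).hom _ _ ((fibreDegLE_iff _ _).1 (h i) k g)
    rwa [pullbackRightPullbackFstIso_hom_snd] at this
  have hcov' : ∀ x, ∃ i, x ∈ Set.range (j i) := fun x => by
    obtain ⟨i, hi⟩ := hcov (pullback.fst f g x)
    refine ⟨i, ?_⟩
    show x ∈ Set.range (pullback.snd (U i).ι (pullback.fst f g))
    rw [Scheme.Pullback.range_snd, Scheme.Opens.range_ι]
    exact hi
  have : Finite ↥(pullback f g) := by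
    refine Set.finite_univ_iff.1 ?_
    rw [show (Set.univ : Set ↥(pullback f g)) = ⋃ i, Set.range (j i) from
      (Set.eq_univ_of_forall fun x => Set.mem_iUnion.2 (hcov' x)).symm]
    refine Set.finite_iUnion fun i => ?_
    obtain ⟨_, _⟩ := finite_discrete_of_fdle (hj i)
    exact Set.finite_range _
  have : IsArtinianRing (CommRingCat.of k) := inferInstanceAs (IsArtinianRing k)
  have : IsLocallyArtinian (pullback f g) := .of_locallyQuasiFinite (pullback.snd f g)
  exact fdle_of_cover _ j hcov' n hj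

theorem fibreDegLE_specMap {R S : Type u} [CommRing R] [CommRing S] [Algebra R S]
    [Algebra.FiniteType R S] [Algebra.QuasiFinite R S] :
    BddFib.UnivBounded (Spec.map (CommRingCat.ofHom (algebraMap R S))) := by
  classical
  choose S' hfg r hr hbij using fun q : PrimeSpectrum S =>
    Algebra.QuasiFiniteAt.exists_fg_and_exists_notMem_and_awayMap_bijective (R := R) q.asIdeal
  obtain ⟨t, ht⟩ := (isCompact_univ (X := PrimeSpectrum S)).elim_finite_subcover
    (fun q => (PrimeSpectrum.basicOpen ((r q : S' q) : S) : Set (PrimeSpectrum S)))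
    (fun q => (PrimeSpectrum.basicOpen _).2) fun q _ => Set.mem_iUnion.2 ⟨q, hr q⟩
  have hfin : ∀ q, Module.Finite R (S' q) := fun q => Module.Finite.iff_fg.2 (hfg q)
  choose N s hs using fun q => Module.Finite.exists_fin (R := R) (M := S' q)
  let e := t.equivFin.symm
  let π := Spec.map (CommRingCat.ofHom (algebraMap R S))
  let U : Fin t.card → (Spec (CommRingCat.of S)).Opens := fun i =>
    PrimeSpectrum.basicOpen ((r (e i) : S' (e i)) : S)
  have : LocallyQuasiFinite π := (HasRingHomProperty.Spec_iff (P := @LocallyQuasiFinite)).2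
    (RingHom.quasiFinite_algebraMap.2 inferInstance)
  refine ⟨_, fibreDegLE_of_cover π U (fun x => ?_) (fun i => N (e i) * 1) fun i => ?_⟩
  · obtain ⟨q, hq, hxq⟩ := Set.mem_iUnion₂.1 (ht (Set.mem_univ x))
    refine ⟨t.equivFin ⟨q, hq⟩, ?_⟩
    show x ∈ PrimeSpectrum.basicOpen ((r (e (t.equivFin ⟨q, hq⟩)) : S' _) : S)
    rw [show e (t.equivFin ⟨q, hq⟩) = ⟨q, hq⟩ from Equiv.symm_apply_apply _ _]
    exact hxq
  let q : PrimeSpectrum S := e i
  let j₀ := Spec.map (CommRingCat.ofHom (algebraMap S (Localization.Away ((r q : S' q) : S))))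
  let iso : Spec (CommRingCat.of (Localization.Away ((r q : S' q) : S))) ≅
      ((U i : Scheme.Opens _) : Scheme.{u}) :=
    IsOpenImmersion.isoOfRangeEq j₀ (U i).ι (by
      rw [Scheme.Opens.range_ι]
      exact PrimeSpectrum.localization_away_comap_range _ _)
  let π' := Spec.map (CommRingCat.ofHom (algebraMap R (S' q)))
  have hπ' : BddFib.FibreDegLE π' (N q) := by
    refine (fibreDegLE_iff π' _).2 fun k _ g => ?_
    obtain ⟨φ, rfl⟩ := Spec.map_surjective g
    let : Algebra R k := φ.hom.toAlgebra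
    have h' : IsPullback (pullback.snd π' (Spec.map φ)) (pullback.fst π' (Spec.map φ))
        (Spec.map (CommRingCat.ofHom (algebraMap R k))) π' :=
      (IsPullback.of_hasPullback π' (Spec.map φ)).flip
    let rr : pullback π' (Spec.map φ) ≅ Spec (CommRingCat.of (k ⊗[R] S' q)) :=
      h'.isoPullback ≪≫ pullbackSpecIso R k (S' q)
    have hrr : rr.hom ≫ Spec.map (CommRingCat.ofHom (algebraMap k (k ⊗[R] S' q))) =
        pullback.snd π' (Spec.map φ) := by
      simp only [rr, Iso.trans_hom, Category.assoc]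
      erw [pullbackSpecIso_hom_fst']
      exact h'.isoPullback_hom_fst
    rw [← hrr, fdle_iso_comp_iff, fdle_spec]
    refine ⟨inferInstanceAs (Module.Finite k (k ⊗[R] S' q)), ?_⟩
    have hspan : Submodule.span k (Set.range fun i => (1 : k) ⊗ₜ[R] s q i) = ⊤ := by
      rw [show (Set.range fun i => (1 : k) ⊗ₜ[R] s q i) =
        (TensorProduct.mk R k (S' q) 1) '' Set.range (s q) from by rw [← Set.range_comp]; rfl,
        ← Submodule.baseChange_span, hs q, Submodule.baseChange_top]
    show Module.finrank k (k ⊗[R] S' q) ≤ N q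
    rw [← finrank_top k, ← hspan]
    exact (finrank_range_le_card _).trans (Fintype.card_fin _).le
  have hloc : IsOpenImmersion (Spec.map (CommRingCat.ofHom
      (algebraMap (S' q) (Localization.Away (r q))))) := IsOpenImmersion.of_isLocalization (r q)
  let θ : Localization.Away (r q) ≃+* Localization.Away ((r q : S' q) : S) :=
    RingEquiv.ofBijective _ (hbij q)
  let jθ := θ.toCommRingCatIso.op.symm
  let a : Spec (CommRingCat.of (Localization.Away ((r q : S' q) : S))) ⟶
      Spec (CommRingCat.of (Localization.Away (r q))) :=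
    Spec.map (CommRingCat.ofHom θ.toRingHom)
  have : IsIso a := inferInstanceAs (IsIso (Spec.map θ.toCommRingCatIso.hom))
  have hfac : (U i).ι ≫ π = (iso.inv ≫ a ≫ Spec.map (CommRingCat.ofHom
      (algebraMap (S' q) (Localization.Away (r q))))) ≫ π' := by
    rw [← cancel_epi iso.hom]
    simp only [Category.assoc, Iso.hom_inv_id_assoc]
    rw [← Category.assoc, IsOpenImmersion.isoOfRangeEq_hom_fac, ← Spec.map_comp, ← Spec.map_comp,
      ← Spec.map_comp]
    congr 1
    ext x
    show algebraMap S _ (algebraMap R S x) =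
      θ (algebraMap (S' q) (Localization.Away (r q)) (algebraMap R (S' q) x))
    show _ = Localization.awayMap (S' q).val.toRingHom (r q)
      (algebraMap (S' q) (Localization.Away (r q)) (algebraMap R (S' q) x))
    simp only [Localization.awayMap, IsLocalization.Away.map]
    refine Eq.trans ?_ (IsLocalization.map_eq (M := Submonoid.powers (r q))
      (T := Submonoid.powers ((S' q).val.toRingHom (r q))) _ _).symm
    rfl
  rw [hfac, mul_comm]
  exact fibreDegLE_comp _ π' 1 (N q) (fibreDegLE_one_of_isImmersion _) hπ'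

theorem univBounded_of_locallyQuasiFinite {X Y : Scheme.{u}} (f : X ⟶ Y) [LocallyQuasiFinite f]
    [LocallyOfFiniteType f] [CompactSpace X] : BddFib.UnivBounded f := by
  classical
  have hloc : ∀ x : X, ∃ (U : X.Opens) (n : ℕ), x ∈ U ∧ BddFib.FibreDegLE (U.ι ≫ f) n := by
    intro x
    obtain ⟨V, hV, hxV, -⟩ := Opens.isBasis_iff_nbhd.1 Y.isBasis_affineOpens (Opens.mem_top (f x))
    obtain ⟨U, hU, hxU, hUV⟩ := Opens.isBasis_iff_nbhd.1 X.isBasis_affineOpens
      (show x ∈ f ⁻¹ᵁ V from hxV)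
    let U : X.Opens := U
    let V : Y.Opens := V
    have hU : IsAffineOpen U := hU
    have hV : IsAffineOpen V := hV
    let φ := f.appLE V U hUV
    let : Algebra Γ(Y, V) Γ(X, U) := φ.hom.toAlgebra
    have : Algebra.FiniteType Γ(Y, V) Γ(X, U) :=
      HasRingHomProperty.appLE @LocallyOfFiniteType f inferInstance ⟨V, hV⟩ ⟨U, hU⟩ hUV
    have : Algebra.QuasiFinite Γ(Y, V) Γ(X, U) :=
      RingHom.quasiFinite_algebraMap.1
        (HasRingHomProperty.appLE @LocallyQuasiFinite f inferInstance ⟨V, hV⟩ ⟨U, hU⟩ hUV)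
    obtain ⟨n, hn⟩ := fibreDegLE_specMap (R := Γ(Y, V)) (S := Γ(X, U))
    refine ⟨U, 1 * (n * 1), hxU, ?_⟩
    have := hV.isOpenImmersion_fromSpec
    have hfac : U.ι ≫ f = hU.isoSpec.hom ≫ (Spec.map φ ≫ hV.fromSpec) := by
      rw [hV.SpecMap_appLE_fromSpec f hU hUV, ← Category.assoc, IsAffineOpen.isoSpec_hom,
        IsAffineOpen.toSpecΓ_fromSpec]
    rw [hfac]
    exact fibreDegLE_comp _ _ 1 (n * 1) (fibreDegLE_one_of_isImmersion _)
      (fibreDegLE_comp _ _ n 1 hn (fibreDegLE_one_of_isImmersion _))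
  choose U n hxU hn using hloc
  obtain ⟨t, ht⟩ := isCompact_univ.elim_finite_subcover (fun x => (U x : Set X)) (fun x => (U x).2)
    fun x _ => Set.mem_iUnion.2 ⟨x, hxU x⟩
  let e := t.equivFin.symm
  refine ⟨_, fibreDegLE_of_cover f (fun i : Fin t.card => U (e i)) (fun x => ?_) _ fun i => hn _⟩
  obtain ⟨z, hz, hxz⟩ := Set.mem_iUnion₂.1 (ht (Set.mem_univ x))
  exact ⟨t.equivFin ⟨z, hz⟩, by simpa [e] using hxz⟩

end Groth.Agent.BddFib93
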